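import Groth.Agent.Gaga.H976.Defs
import Groth.Agent.S0036
import Groth.Agent.Sga67.CohBasic
import Groth.Agent.Dcoh.DerSch

/-!
# The direct image of an algebraic sheaf is algebraic, given the base change theorem
-/

set_option autoImplicit false

open CategoryTheory AlgebraicGeometry TopologicalSpace Opposite

noncomputable section

namespace Groth.Agent.Gaga.H640.AlgPush

open Groth.Agent.Gaga.H976.Defs

/-- The direct image of a coherent sheaf under a proper morphism, in the form `An.pushMod`. -/
theorem isCoh_pushMod {X Y : Scheme.{0}} [X.Over An.SC] [Y.Over An.SC]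
    (f : X ⟶ Y) [IsProper f] [IsLocallyNoetherian Y] {M : X.Modules}
    (hM : Coh.IsCoh M) : Coh.IsCoh ((An.pushMod f).obj M) := by
  have := Groth.Agent.Dcoh.DerSch.hasInjectiveResolutions X
  exact Groth.Agent.Sga67.CohBasic.isCoh_of_iso
    ((Scheme.Modules.pushforward f).rightDerivedZeroIsoSelf.app M)
    (Groth.Agent.S0036.result f M hM 0)

/-- If the base change maps of coherent sheaves along a proper morphism are isomorphisms then the
direct image of an algebraic sheaf is algebraic. -/
theorem alg_push {X Y : Scheme.{0}} [X.Over An.SC] [Y.Over An.SC]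
    [LocallyOfFiniteType (X ↘ An.SC)] [LocallyOfFiniteType (Y ↘ An.SC)] [IsReduced X] [IsReduced Y]
    (f : X ⟶ Y) [f.IsOver An.SC] [IsProper f]
    (h4325 : ∀ M : X.Modules, Coh.IsCoh M → IsIso (An.anBaseChange f M))
    (N : An.AnMod X) (hN : Alg N) : Alg ((An.anPushMap f).obj N) := by
  obtain ⟨M, hM, ⟨e⟩⟩ := hN
  have hY : IsLocallyNoetherian Y := LocallyOfFiniteType.isLocallyNoetherian (Y ↘ An.SC)
  have hi := h4325 M hM
  exact ⟨(An.pushMod f).obj M, isCoh_pushMod f hM,
    ⟨asIso (An.anBaseChange f M) ≪≫ (An.anPushMap f).mapIso e⟩⟩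

end Groth.Agent.Gaga.H640.AlgPush
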